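import Cfsg.Agent.SNG.SingB
import Cfsg.Agent.SNG.E1
import Cfsg.Agent.SNG.Orb
import Cfsg.Agent.SNG.NumL

set_option autoImplicit false
set_option linter.unusedSectionVars false

namespace Cfsg.Agent.SNG

open MulAction Module
open scoped ComplexConjugate

variable {F L : Type*} [Field F] [Fintype F] [Field L] [Algebra F L] [Finite L]
  {G : Subgroup (L ≃ₗ[F] L)}

theorem norm_cop {e : ℕ} (hn : (finrank F L).Prime) (h11 : 11 ≤ finrank F L) (h : CC (sg G (T0 F L)) (sg G (Z0 F L)) e)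
    {k : G} {x : L} (hx : x ≠ 0) {c : F} (hk : k.1 x = c • x) : (orderOf k).Coprime (Nat.card (sg G (T0 F L))) := by
  have := finite_gl (F := F) (L := L)
  refine Nat.coprime_of_dvd fun s hs h1 h2 => ?_
  have h3 := orderOf_pow_orderOf_div (orderOf_pos k).ne' h1
  have h4 : ∀ m : ℕ, (k ^ m).1 x = c ^ m • x := fun m => by
    induction m with
    | zero => simp
    | succ m ih => rw [pow_succ, Subgroup.coe_mul, LinearEquiv.mul_apply, hk, map_smul, ih, smul_smul, pow_succ']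
  obtain ⟨j, hj⟩ := h.conj_into hs h2 h3
  obtain ⟨u, hu, e⟩ := mem_sg.1 hj
  have h5 := LinearEquiv.congr_fun e (j.1 x)
  rw [mu_apply, Subgroup.coe_mul, Subgroup.coe_mul, LinearEquiv.mul_apply, LinearEquiv.mul_apply, Subgroup.coe_inv,
    LinearEquiv.coe_inv, LinearEquiv.symm_apply_apply, h4, map_smul, Algebra.smul_def,
    mul_left_inj' (j.1.map_ne_zero_iff.2 hx)] at h5
  rw [Subgroup.mem_bot.1 ((T0_inf_S0 hn h11).le ⟨hu, mem_S0.2 ⟨_, h5.symm⟩⟩), map_one, eq_comm, OneMemClass.coe_eq_one,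
    conj_eq_one_iff] at e
  exact hs.ne_one (by rw [← h3, e, orderOf_one])

theorem MinOv.not_cc_one (h : MinOv G) (hn : (finrank F L).Prime) (h11 : 11 ≤ finrank F L) :
    ¬ CC (sg G (T0 F L)) (sg G (Z0 F L)) 1 := fun hc => by
  have := finite_gl (F := F) (L := L)
  have N := num hn h11
  obtain ⟨O, hO, h1, h2, h3, h4⟩ := hc.transfer
  have h5 := N.norm (small_orbits (O.map G.subtype) (d := Nat.card (Z0 F L)) ?_ fun x hx => ?_)
  · rw [Subgroup.card_map_of_injective G.subtype_injective, ← h.card_sg (U := T0 F L) inf_le_left] at h5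
    refine h.nn (Subgroup.normalizer_eq_top_iff.1 (eq_top_iff.2 (h3.ge.trans (sup_le (fun g hg => ?_)
      Subgroup.le_normalizer))))
    refine Subgroup.center_le_normalizer _ (hc.zc (by_contra fun hZ => h5.not_ge ?_))
    refine Nat.card_le_card_of_injective (fun t => ⟨_, hO.conj_mem g hg t.1⟩) fun t t' e => by_contra fun hne => hZ ?_
    have e1 : (t'⁻¹ * t).1 ≠ 1 := fun k => hne (inv_mul_eq_one.1 (Subtype.ext k)).symm
    obtain ⟨a, ha, z, hz, rfl⟩ := hc.dec (hc.cent _ (Subgroup.mem_sup_left (t'⁻¹ * t).2)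
      (fun k => e1 (Subgroup.mem_bot.1 (hc.inf_eq.le ⟨(t'⁻¹ * t).2, k⟩))) g (by
        have e2 : t.1 * g * t.1⁻¹ = t'.1 * g * t'.1⁻¹ := congrArg Subtype.val e
        calc _ = t'.1⁻¹ * (t'.1 * g * t'.1⁻¹) * t.1 := by simp [mul_assoc]
          _ = _ := by rw [← e2]; simp [mul_assoc]))
    rwa [Subgroup.mem_bot.1 (h2.le ⟨(O.mul_mem_cancel_left (h1 hz)).1 hg, ha⟩), mul_one]
  · refine le_trans (Set.ncard_le_ncard (t := mu F L '' Z0 F L) ?_ (Set.toFinite _))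
      ((Set.ncard_image_le (Set.toFinite _)).trans (Nat.card_coe_set_eq _).ge)
    rintro _ ⟨⟨g, -, rfl⟩, c, hg⟩
    have c0 : algebraMap F L c ≠ 0 := fun e => one_ne_zero (g.1.map_eq_zero_iff.1 ((hg 1).trans (by
      rw [Algebra.smul_def, e, zero_mul])))
    have e : mu F L (Units.mk0 _ c0) = g.1 := LinearEquiv.ext fun x => (Algebra.smul_def c x).symm.trans (hg x).symm
    exact ⟨_, ⟨mem_C0.2 (by rw [← det_mu, e]; exact h.det _ g.2), mem_S0.2 ⟨c, rfl⟩⟩, e⟩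
  have v0 : 0 < Nat.card (T0 F L) := Nat.card_pos
  refine Nat.le_of_mul_le_mul_left (Nat.le_of_succ_le_succ ?_) v0
  rw [← mul_assoc, mul_comm (Nat.card (T0 F L)) (Nat.card (Z0 F L)), Nat.succ_eq_add_one, Nat.succ_eq_add_one, N.eq,
    ← card_top_eq_pow, ← Nat.card_coe_set_eq, ← Nat.card_prod, ← Finite.card_option]
  refine Nat.card_le_card_of_injective (fun o => o.elim 0 fun a => a.1.1 * a.2.1) ?_
  have h6 : ∀ a : T0 F L × {y : L | ∃ g ∈ O.map G.subtype, ∃ c : F, c ≠ 0 ∧ y = c • g x}, (a.1.1 : L) * a.2.1 ≠ 0 := by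
    rintro ⟨t, _, g, -, c, hc, rfl⟩
    exact mul_ne_zero t.1.ne_zero (smul_ne_zero hc (g.map_ne_zero_iff.2 hx))
  rintro (_ | a) (_ | b) e
  · rfl
  · exact (h6 b e.symm).elim
  · exact (h6 a e).elim
  · revert e
    obtain ⟨t, _, _, ⟨g, hg, rfl⟩, c, c0, rfl⟩ := a
    obtain ⟨t', _, _, ⟨g', hg', rfl⟩, c', c1, rfl⟩ := b
    intro e
    change (t.1 : L) * c • g.1 x = t'.1 * c' • g'.1 x at e
    let w : G := ⟨mu F L (t'⁻¹ * t).1, h.mem _ (t'⁻¹ * t).2.1⟩
    have h7 := h4 _ (norm_cop hn h11 hc (k := g'⁻¹ * w * g) hx (c := c⁻¹ * c') (by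
      change g'.1.symm ((t'.1⁻¹ * t.1 : Lˣ) * g.1 x) = _
      rw [LinearEquiv.symm_apply_eq, map_smul, mul_smul, eq_inv_smul_iff₀ c0, Units.val_mul, mul_assoc, ← mul_smul_comm,
        ← mul_smul_comm, e, Units.inv_mul_cancel_left]))
    have h8 := Subgroup.mem_bot.1 (h2.le ⟨(O.mul_mem_cancel_left (inv_mem hg')).1 ((O.mul_mem_cancel_right hg).1 h7),
      mem_sg.2 ⟨_, (t'⁻¹ * t).2, rfl⟩⟩)
    obtain rfl : t' = t := inv_mul_eq_one.1 (Subtype.ext (mu_inj ((congrArg Subtype.val h8).trans (map_one _).symm)))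
    exact congrArg (fun y => some (t', y)) (Subtype.ext (mul_left_cancel₀ t'.1.ne_zero e))

theorem MinOv.cc (h : MinOv G) (hn : (finrank F L).Prime) (h11 : 11 ≤ finrank F L) :
    CC (sg G (T0 F L)) (sg G (Z0 F L)) (finrank F L) := by
  obtain ⟨e, he, hc⟩ := h.toOv.cc hn h11
  obtain rfl | rfl := (Nat.dvd_prime hn).1 he
  exacts [(h.not_cc_one hn h11 hc).elim, hc]

end Cfsg.Agent.SNG
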